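import Cfsg.Agent.Lib.PGroup.ClassGraph
import Cfsg.Agent.Lib.Char.Solomon

/-!
The graph on the primes dividing class sizes of `p`-singular elements has diameter at most three
when `p` does not divide the order of the centre.
-/

set_option autoImplicit false
set_option linter.unusedSectionVars false

namespace CfsgLib.ClassSingular

open Subgroup CfsgLib.ClassGraph

variable {G : Type*} [Group G] [Finite G] {p : ℕ} [hp : Fact p.Prime]

/-- Both numbers divide the class size of one `p`-singular element. -/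
def Adj (p : ℕ) (G : Type*) [Group G] (u v : ℕ) : Prop :=
  ∃ x : G, p ∣ orderOf x ∧ u ∣ cidx x ∧ v ∣ cidx x

theorem Adj.symm {u v : ℕ} : Adj p G u v → Adj p G v u :=
  fun ⟨x, hx, h1, h2⟩ => ⟨x, hx, h2, h1⟩

theorem Adj.mul {u v : ℕ} (hu : u.Prime) (hv : v.Prime) (hne : u ≠ v) :
    Adj p G u v → ∃ x : G, p ∣ orderOf x ∧ u * v ∣ cidx x :=
  fun ⟨x, hx, h1, h2⟩ => ⟨x, hx, Nat.Coprime.mul_dvd_of_dvd_of_dvd
    ((Nat.coprime_primes hu hv).2 hne) h1 h2⟩

theorem mem_centralizer_left {u v g : G} (h : Commute u v)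
    (hco : (orderOf u).Coprime (orderOf v)) (hg : g ∈ centralizer ({u * v} : Set G)) :
    g ∈ centralizer ({u} : Set G) := by
  have h1 : Commute g (u * v) := mem_centralizer_singleton_iff.1 hg
  obtain ⟨m, hm⟩ := exists_pow_eq_self_of_coprime hco.symm
  have h2 := (h1.pow_right (orderOf v)).pow_right m
  rw [h.mul_pow, pow_orderOf_eq_one, mul_one, hm] at h2
  exact mem_centralizer_singleton_iff.2 h2

theorem mem_centralizer_right {u v g : G} (h : Commute u v)
    (hco : (orderOf u).Coprime (orderOf v)) (hg : g ∈ centralizer ({u * v} : Set G)) :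
    g ∈ centralizer ({v} : Set G) :=
  mem_centralizer_left h.symm hco.symm (h.eq ▸ hg)

theorem cidx_dvd_left {u v : G} (h : Commute u v) (hco : (orderOf u).Coprime (orderOf v)) :
    cidx u ∣ cidx (u * v) :=
  index_dvd_of_le fun _ hg => mem_centralizer_left h hco hg

theorem cidx_dvd_right {u v : G} (h : Commute u v) (hco : (orderOf u).Coprime (orderOf v)) :
    cidx v ∣ cidx (u * v) :=
  index_dvd_of_le fun _ hg => mem_centralizer_right h hco hg

theorem cidx_mul_center {u v : G} (hv : v ∈ center G) : cidx (u * v) = cidx u := by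
  unfold cidx
  congr 1
  ext g
  rw [mem_centralizer_singleton_iff, mem_centralizer_singleton_iff]
  have h := (mem_center_iff.1 hv) g
  constructor
  · intro e
    apply mul_right_cancel (b := v)
    calc g * u * v = g * (u * v) := mul_assoc _ _ _
      _ = u * v * g := e
      _ = u * g * v := by rw [mul_assoc, mul_assoc, h]
  · intro e
    rw [← mul_assoc, e, mul_assoc, h, mul_assoc]

theorem not_mem_center (hZ : ¬ p ∣ Nat.card (center G)) {x : G} (hx : p ∣ orderOf x) :
    x ∉ center G := fun h =>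
  hZ (hx.trans (by
    have := orderOf_dvd_natCard (⟨x, h⟩ : center G)
    rwa [← Subgroup.orderOf_coe] at this))

theorem exists_prime_dvd_cidx {x : G} (hx : x ∉ center G) : ∃ t : ℕ, t.Prime ∧ t ∣ cidx x :=
  Nat.exists_prime_and_dvd fun h => hx (mem_center_of_cidx h)

/-- The parts of a `p`-singular element. -/
theorem exists_parts {x : G} (hx : p ∣ orderOf x) :
    ∃ u v : G, u * v = x ∧ Commute u v ∧ (orderOf u).Coprime (orderOf v) ∧ p ∣ orderOf u ∧
      IsPGroup p (zpowers u) ∧ (orderOf v).Coprime p ∧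
      u ∈ zpowers x ∧ v ∈ zpowers x := by
  haveI := Fintype.ofFinite G
  obtain ⟨u, v, huv, hc, ⟨k, hk⟩, hv, hu1, hv1⟩ := Char.exists_pow_parts hp.out x
  obtain ⟨j, -, hj⟩ := (Nat.dvd_prime_pow hp.out).1 (orderOf_dvd_of_pow_eq_one hk)
  have hco : (orderOf u).Coprime (orderOf v) := by
    rw [hj]; exact (Nat.Coprime.pow_right j hv).symm
  refine ⟨u, v, huv, hc, hco, ?_, IsPGroup.of_card (n := j) (by rw [Nat.card_zpowers, hj]), hv,
    hu1, hv1⟩
  rw [← huv, hc.orderOf_mul_eq_mul_orderOf_of_coprime hco] at hx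
  exact (Nat.Coprime.dvd_of_dvd_mul_right hv.symm hx)

theorem orderOf_conj (g x : G) : orderOf (g * x * g⁻¹) = orderOf x :=
  MulEquiv.orderOf_eq (MulAut.conj g) x

theorem p_dvd_orderOf {z : G} (hz : IsPGroup p (zpowers z)) (h1 : z ≠ 1) : p ∣ orderOf z := by
  obtain ⟨n, hn⟩ := hz.exists_card_eq
  rw [Nat.card_zpowers] at hn
  rcases Nat.eq_zero_or_pos n with rfl | hn0
  · exact absurd (orderOf_eq_one_iff.1 (by simpa using hn)) h1
  · exact hn ▸ dvd_pow_self p hn0.ne'

theorem isPGroup_zpowers_of_mem {H : Subgroup G} (hH : IsPGroup p H) {x : G} (hx : x ∈ H) :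
    IsPGroup p (zpowers x) :=
  hH.to_le (zpowers_le.2 hx)

/-- `P C(P)` as a set of products. -/
def pcent (P : Sylow p G) : Subgroup G where
  carrier := {g | ∃ u ∈ (P : Subgroup G), ∃ c ∈ centralizer ((P : Subgroup G) : Set G), g = u * c}
  mul_mem' := by
    rintro _ _ ⟨u, hu, c, hc, rfl⟩ ⟨u', hu', c', hc', rfl⟩
    refine ⟨u * u', mul_mem hu hu', c * c', mul_mem hc hc', ?_⟩
    rw [mul_assoc, ← mul_assoc c, ← mem_centralizer_iff.1 hc u' hu']
    simp only [mul_assoc]
  one_mem' := ⟨1, one_mem _, 1, one_mem _, by rw [one_mul]⟩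
  inv_mem' := by
    rintro _ ⟨u, hu, c, hc, rfl⟩
    refine ⟨u⁻¹, inv_mem hu, c⁻¹, inv_mem hc, ?_⟩
    rw [mul_inv_rev, mem_centralizer_iff.1 (inv_mem hc) _ (inv_mem hu)]

variable (P : Sylow p G)

theorem le_pcent : (P : Subgroup G) ≤ pcent P :=
  fun u hu => ⟨u, hu, 1, one_mem _, (mul_one u).symm⟩

theorem cent_le_pcent : centralizer ((P : Subgroup G) : Set G) ≤ pcent P :=
  fun c hc => ⟨1, one_mem _, c, hc, (one_mul c).symm⟩

theorem pcent_le_centralizer {z : G} (hzP : z ∈ (P : Subgroup G))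
    (hzC : z ∈ centralizer ((P : Subgroup G) : Set G)) : pcent P ≤ centralizer ({z} : Set G) := by
  rintro _ ⟨u, hu, c, hc, rfl⟩
  exact mul_mem (mem_centralizer_singleton_iff.2 (mem_centralizer_iff.1 hzC u hu))
    (mem_centralizer_singleton_iff.2 (mem_centralizer_iff.1 hc z hzP).symm)

theorem not_dvd_index_pcent : ¬ p ∣ (pcent P).index :=
  fun h => P.not_dvd_index (h.trans (index_dvd_of_le (le_pcent P)))

theorem mem_of_mem_cent {x : G} (hx : IsPGroup p (zpowers x))
    (hxC : x ∈ centralizer ((P : Subgroup G) : Set G)) : x ∈ (P : Subgroup G) := by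
  have hN : x ∈ normalizer ((P : Subgroup G) : Set G) := by
    rw [mem_normalizer_iff]
    intro u
    constructor
    · intro hu
      rwa [← mem_centralizer_iff.1 hxC u hu, mul_inv_cancel_right]
    · intro hu
      have h := mem_centralizer_iff.1 hxC _ hu
      rw [inv_mul_cancel_right] at h
      exact Set.mem_of_eq_of_mem (mul_left_cancel h) hu
  have h := hx.inf_normalizer_sylow P
  have hx' : x ∈ zpowers x ⊓ normalizer (P : Set G) := ⟨mem_zpowers x, hN⟩
  rw [h] at hx'
  exact hx'.2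

/-- A `p`-element whose class size is prime to `p` is conjugate into `Z(P)`. -/
theorem exists_conj_center {a : G} (ha : IsPGroup p (zpowers a)) (h : ¬ p ∣ cidx a) :
    ∃ g : G, g⁻¹ * a * g ∈ (P : Subgroup G) ∧
      g⁻¹ * a * g ∈ centralizer ((P : Subgroup G) : Set G) := by
  obtain ⟨g, hg⟩ := exists_conj_centralizes P h
  refine ⟨g, mem_of_mem_cent P ?_ hg, hg⟩
  obtain ⟨n, hn⟩ := ha.exists_card_eq
  refine IsPGroup.of_card (n := n) ?_
  rw [Nat.card_zpowers] at hn ⊢
  rw [← hn, show g⁻¹ * a * g = g⁻¹ * a * (g⁻¹)⁻¹ by rw [inv_inv], orderOf_conj]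

/-- If `C(z)` is bigger than `P C(P)` then some `p'`-element in it pushes `p` into the class size. -/
theorem good {z : G} (hzP : z ∈ (P : Subgroup G))
    (hzC : z ∈ centralizer ((P : Subgroup G) : Set G)) (hz1 : z ≠ 1)
    (hbig : ¬ centralizer ({z} : Set G) ≤ pcent P) :
    ∃ k : G, p ∣ cidx (z * k) ∧ cidx z ∣ cidx (z * k) ∧ p ∣ orderOf (z * k) := by
  by_contra hcon
  push Not at hcon
  apply hbig
  set D := centralizer ({z} : Set G) with hD
  have hPD : (P : Subgroup G) ≤ D := (le_pcent P).trans (pcent_le_centralizer P hzP hzC)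
  have hzp : IsPGroup p (zpowers z) := isPGroup_zpowers_of_mem P.isPGroup' hzP
  rw [← subgroupOf_eq_top]
  refine PGroup.eq_top_of_forall_conj_mem _ fun x => ?_
  haveI := Fintype.ofFinite G
  obtain ⟨u, v, huv, hc, ⟨j, hj⟩, hv, hu1, hv1⟩ := Char.exists_pow_parts hp.out (x : G)
  have huD : u ∈ D := zpowers_le.2 x.2 hu1
  have hvD : v ∈ D := zpowers_le.2 x.2 hv1
  have hzv : Commute z v := (mem_centralizer_singleton_iff.1 hvD).symm
  have hzu : Commute z u := (mem_centralizer_singleton_iff.1 huD).symm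
  obtain ⟨n, hn⟩ := hzp.exists_card_eq
  rw [Nat.card_zpowers] at hn
  have hco : (orderOf z).Coprime (orderOf v) := by
    rw [hn]; exact (Nat.Coprime.pow_right n hv).symm
  have hord : p ∣ orderOf (z * v) := by
    rw [hzv.orderOf_mul_eq_mul_orderOf_of_coprime hco]
    exact (p_dvd_orderOf hzp hz1).mul_right _
  have hnd : ¬ p ∣ cidx (z * v) := fun h => hcon v h (cidx_dvd_left hzv hco) hord
  set E := centralizer ({z * v} : Set G) with hE
  have huE : u ∈ E := mem_centralizer_singleton_iff.2 (hzu.symm.mul_right hc).eq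
  have hup : IsPGroup p (zpowers (⟨u, huE⟩ : E)) := by
    obtain ⟨i, -, hi⟩ := (Nat.dvd_prime_pow hp.out).1 (orderOf_dvd_of_pow_eq_one hj)
    refine IsPGroup.of_card (n := i) ?_
    rw [Nat.card_zpowers, ← Subgroup.orderOf_coe]
    exact hi
  obtain ⟨Q, hQ⟩ := hup.exists_le_sylow
  have hQi : ¬ p ∣ ((Q : Subgroup E).map E.subtype).index := by
    rw [index_map_subtype]
    exact hp.out.not_dvd_mul Q.not_dvd_index hnd
  set R : Sylow p G := (Q.isPGroup'.map _).toSylow hQi with hRdef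
  have hRE : ∀ w ∈ (R : Subgroup G), w ∈ E := by
    intro w hw
    rw [hRdef, IsPGroup.toSylow_coe] at hw
    obtain ⟨w', -, rfl⟩ := hw
    exact w'.2
  have huR : u ∈ (R : Subgroup G) := by
    rw [hRdef, IsPGroup.toSylow_coe]
    exact ⟨⟨u, huE⟩, hQ (mem_zpowers _), rfl⟩
  have hRD : (R : Subgroup G) ≤ D := fun w hw => mem_centralizer_left hzv hco (hRE w hw)
  obtain ⟨d, hd⟩ := MulAction.exists_smul_eq D (P.subtype hPD) (R.subtype hRD)
  rw [Sylow.smul_subtype] at hd
  have hd' : (d : G) • P = R := Sylow.subtype_injective hd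
  have hin : ∀ w ∈ (P : Subgroup G), (d : G) * w * (d : G)⁻¹ ∈ (R : Subgroup G) := by
    intro w hw
    rw [← hd', Sylow.coe_subgroup_smul]
    exact smul_mem_pointwise_smul w (MulAut.conj (d : G)) _ hw
  refine ⟨d, ?_⟩
  rw [mem_subgroupOf]
  show (d : G)⁻¹ * (x : G) * (d : G) ∈ pcent P
  rw [← huv, show (d : G)⁻¹ * (u * v) * d = ((d : G)⁻¹ * u * d) * ((d : G)⁻¹ * v * d) by group]
  refine mul_mem (le_pcent P ?_) (cent_le_pcent P ?_)
  · rw [← hd', Sylow.coe_subgroup_smul] at huR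
    obtain ⟨w, hw, hwu⟩ := huR
    have hw' : (d : G) * w * (d : G)⁻¹ = u := hwu
    rwa [← hw', show (d : G)⁻¹ * ((d : G) * w * (d : G)⁻¹) * d = w by group]
  · refine mem_centralizer_iff.2 fun w hw => ?_
    have h := mem_centralizer_singleton_iff.1
      (mem_centralizer_right hzv hco (hRE _ (hin w hw)))
    calc w * ((d : G)⁻¹ * v * d) = (d : G)⁻¹ * ((d : G) * w * (d : G)⁻¹ * v) * d := by group
      _ = (d : G)⁻¹ * (v * ((d : G) * w * (d : G)⁻¹)) * d := by rw [h]
      _ = (d : G)⁻¹ * v * d * w := by group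

/-- Some prime of `|b^G|`, `b ∈ Z(P)`, is joined to `p` as soon as `p` is a vertex. -/
theorem exists_adj_p (hZ : ¬ p ∣ Nat.card (center G)) (hex : ∃ x : G, p ∣ orderOf x ∧ p ∣ cidx x)
    {b : G} (hbP : b ∈ (P : Subgroup G)) (hbC : b ∈ centralizer ((P : Subgroup G) : Set G))
    (hb1 : b ≠ 1) : ∃ t : ℕ, t.Prime ∧ t ∣ cidx b ∧ Adj p G p t := by
  by_contra hcon
  push Not at hcon
  have hbord : p ∣ orderOf b := p_dvd_orderOf (isPGroup_zpowers_of_mem P.isPGroup' hbP) hb1
  have hbc : b ∉ center G := not_mem_center hZ hbord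
  have hbM : centralizer ({b} : Set G) = pcent P := by
    refine le_antisymm ?_ (pcent_le_centralizer P hbP hbC)
    by_contra hbig
    obtain ⟨k, h1, h2, h3⟩ := good P hbP hbC hb1 hbig
    obtain ⟨t, ht, htb⟩ := exists_prime_dvd_cidx hbc
    exact hcon t ht htb ⟨_, h3, h1, htb.trans h2⟩
  have hbi : cidx b = (pcent P).index := congrArg Subgroup.index hbM
  -- class sizes divisible by `p` are prime to `m`
  have hcop : ∀ x : G, p ∣ orderOf x → p ∣ cidx x → (cidx x).Coprime (cidx b) := by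
    intro x hx1 hx2
    refine Nat.coprime_of_dvd fun t ht h1 h2 => ?_
    exact hcon t ht h2 ⟨x, hx1, hx2, h1⟩
  have hm1 : cidx b ≠ 1 := fun h => hbc (mem_center_of_cidx h)
  have hcent : ∀ a : G, IsPGroup p (zpowers a) → a ≠ 1 → ¬ p ∣ cidx a → cidx a = cidx b := by
    intro a ha ha1 hpa
    obtain ⟨g, hgP, hgC⟩ := exists_conj_center P ha hpa
    have hco : cidx (g⁻¹ * a * g) = cidx a := by
      conv_lhs => rw [show g⁻¹ * a * g = g⁻¹ * a * (g⁻¹)⁻¹ by rw [inv_inv]]
      exact cidx_conj _ _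
    have hne : g⁻¹ * a * g ≠ 1 := fun h => ha1 (by
      have := congrArg (fun t => g * t * g⁻¹) h
      simpa [mul_assoc] using this)
    rw [← hco, hbi]
    refine congrArg Subgroup.index (le_antisymm ?_ (pcent_le_centralizer P hgP hgC))
    by_contra hbig
    obtain ⟨k, h1, h2, h3⟩ := good P hgP hgC hne hbig
    obtain ⟨t, ht, htz⟩ := exists_prime_dvd_cidx (not_mem_center hZ
      (p_dvd_orderOf (isPGroup_zpowers_of_mem P.isPGroup' hgP) hne))
    refine hcon t ht ?_ ⟨_, h3, h1, htz.trans h2⟩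
    rw [hbi]
    exact htz.trans (index_dvd_of_le (pcent_le_centralizer P hgP hgC))
  set S : Set G := {a | a ∈ (P : Subgroup G) ∧ p ∣ cidx a} with hSdef
  have hS1 : ∀ a ∈ S, p ∣ orderOf a := by
    intro a ha
    refine p_dvd_orderOf (isPGroup_zpowers_of_mem P.isPGroup' ha.1) fun h => ?_
    subst h
    have := ha.2
    rw [cidx_of_mem_center (one_mem _)] at this
    exact hp.out.not_dvd_one this
  -- a member of `S`
  have hSne : ∃ a, a ∈ S := by
    obtain ⟨x, hx1, hx2⟩ := hex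
    obtain ⟨u, v, huv, hc, hco, hpu, hup, -, -, -⟩ := exists_parts hx1
    have hpa : p ∣ cidx u := by
      by_contra hpa
      have hu1 : u ≠ 1 := fun h => hp.out.not_dvd_one (by simpa [h] using hpu)
      have hd : cidx b ∣ cidx x := by
        rw [← hcent u hup hu1 hpa, ← huv]; exact cidx_dvd_left hc hco
      exact hm1 (Nat.eq_one_of_dvd_coprimes (hcop x hx1 hx2) hd dvd_rfl)
    obtain ⟨R, hR⟩ := hup.exists_le_sylow
    obtain ⟨g, hg⟩ := MulAction.exists_smul_eq G P R
    have huR : u ∈ (R : Subgroup G) := hR (mem_zpowers u)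
    rw [← hg, Sylow.coe_subgroup_smul] at huR
    obtain ⟨w, hw, hwu⟩ := huR
    have hw' : g * w * g⁻¹ = u := hwu
    exact ⟨w, hw, by rwa [← cidx_conj g w, hw']⟩
  -- conjugates of members of `S` are conjugates under `P`
  have hconj : ∀ a ∈ S, ∀ g : G, ∃ u ∈ (P : Subgroup G), g⁻¹ * a * g = u⁻¹ * a * u := by
    intro a ha g
    obtain ⟨c, hc, d, hd, rfl⟩ := exists_mul_of_coprime (hcop a (hS1 a ha) ha.2) g
    rw [hbM] at hd
    obtain ⟨u, hu, c', hc', rfl⟩ := hd
    refine ⟨u, hu, ?_⟩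
    have h1 := mem_centralizer_singleton_iff.1 hc
    have h2 := mem_centralizer_iff.1 hc' (u⁻¹ * a * u) (mul_mem (mul_mem (inv_mem hu) ha.1) hu)
    calc (c * (u * c'))⁻¹ * a * (c * (u * c')) = c'⁻¹ * (u⁻¹ * (c⁻¹ * (a * c)) * u) * c' := by
          group
      _ = c'⁻¹ * (u⁻¹ * (c⁻¹ * (c * a)) * u) * c' := by rw [h1]
      _ = c'⁻¹ * ((u⁻¹ * a * u) * c') := by group
      _ = u⁻¹ * a * u := by rw [h2, inv_mul_cancel_left]
  have hSP : closure S ≤ (P : Subgroup G) := (closure_le _).2 fun a ha => ha.1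
  have hSn : (closure S).Normal := by
    refine normal_of_gens fun a ha g => ?_
    obtain ⟨u, hu, e⟩ := hconj a ha g⁻¹
    rw [inv_inv] at e
    exact ⟨e ▸ mul_mem (mul_mem (inv_mem hu) ha.1) hu, by rw [cidx_conj]; exact ha.2⟩
  -- `S` generates `P`
  have hgen : (P : Subgroup G) ≤ closure S := by
    by_contra hle
    obtain ⟨x, hxP, hxN⟩ := SetLike.not_le_iff_exists.1 hle
    have hout : ∀ y ∈ (P : Subgroup G), y ∉ closure S →
        y ∈ centralizer ((closure S : Subgroup G) : Set G) := by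
      intro y hyP hyN
      have hy : ¬ p ∣ cidx y := fun h => hyN (subset_closure ⟨hyP, h⟩)
      obtain ⟨g, hg⟩ := exists_conj_centralizes P hy
      refine mem_centralizer_iff.2 fun n hn => ?_
      have h := mem_centralizer_iff.1 hg (g⁻¹ * n * g) (hSP (by
        simpa using hSn.conj_mem n hn g⁻¹))
      calc n * y = g * (g⁻¹ * n * g * (g⁻¹ * y * g)) * g⁻¹ := by group
        _ = g * (g⁻¹ * y * g * (g⁻¹ * n * g)) * g⁻¹ := by rw [h]
        _ = y * n := by group
    have hall : (P : Subgroup G) ≤ centralizer ((closure S : Subgroup G) : Set G) := by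
      intro y hyP
      by_cases hyN : y ∈ closure S
      · have hxy : x * y ∉ closure S := fun h => hxN (by
          simpa [mul_assoc] using mul_mem h (inv_mem hyN))
        have := mul_mem (inv_mem (hout x hxP hxN)) (hout _ (mul_mem hxP hyP) hxy)
        rwa [inv_mul_cancel_left] at this
      · exact hout y hyP hyN
    obtain ⟨a, ha⟩ := hSne
    refine P.not_dvd_index (ha.2.trans (index_dvd_of_le fun w hw => ?_))
    exact mem_centralizer_singleton_iff.2
      (mem_centralizer_iff.1 (hall hw) a (subset_closure ha)).symm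
  -- class sizes in `S` are powers of `p`
  have hpow : ∀ a ∈ S, ∀ q : ℕ, q.Prime → q ≠ p → ¬ q ∣ cidx a := by
    intro a ha q hq hqp h
    have horb : MulAction.orbit (P : Subgroup G)
        ((1 : G) : G ⧸ centralizer ({a} : Set G)) = Set.univ := by
      refine Set.eq_univ_of_forall fun y => ?_
      induction y using QuotientGroup.induction_on with
      | H g =>
        obtain ⟨u, hu, e⟩ := hconj a ha g⁻¹
        rw [inv_inv] at e
        refine ⟨⟨u⁻¹, inv_mem hu⟩, ?_⟩
        show ((u⁻¹ * 1 : G) : G ⧸ centralizer ({a} : Set G)) = (g : G ⧸ centralizer ({a} : Set G))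
        rw [QuotientGroup.eq, mul_one, inv_inv, mem_centralizer_singleton_iff]
        calc u * g * a = u * (g * a * g⁻¹) * g := by group
          _ = u * (u⁻¹ * a * u) * g := by rw [e]
          _ = a * (u * g) := by group
    obtain ⟨n, hn⟩ := P.isPGroup'.card_orbit
      ((1 : G) : G ⧸ centralizer ({a} : Set G))
    have hci : cidx a = p ^ n := by
      rw [← hn, horb, Nat.card_univ]
      exact index_eq_card _
    rw [hci] at h
    exact hqp ((Nat.prime_dvd_prime_iff_eq hq hp.out).1 (hq.dvd_of_dvd_pow h))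
  -- hence `G = P C(P)`
  refine hm1 ?_
  by_contra hne
  obtain ⟨q, hq, hqm⟩ := Nat.exists_prime_and_dvd hne
  rw [hbi] at hqm
  haveI : Fact q.Prime := ⟨hq⟩
  rcases eq_or_ne q p with rfl | hqp
  · exact not_dvd_index_pcent P hqm
  let Q : Sylow q G := default
  refine Q.not_dvd_index (hqm.trans (index_dvd_of_le (le_trans ?_ (cent_le_pcent P))))
  rw [le_centralizer_iff]
  by_contra hPQ
  set K := (centralizer ((Q : Subgroup G) : Set G)).subgroupOf (P : Subgroup G) with hK
  have hKt : K ≠ ⊤ := fun h => hPQ (subgroupOf_eq_top.1 h)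
  obtain ⟨L, hL, hKL⟩ := (eq_top_or_exists_le_coatom K).resolve_left hKt
  haveI : Group.IsNilpotent (P : Subgroup G) := P.isPGroup'.isNilpotent
  haveI := Group.normalizerCondition_of_isNilpotent.normal_of_coatom L hL
  apply hL.1
  rw [eq_top_iff]
  intro y _
  have hle : closure S ≤ L.map (P : Subgroup G).subtype := by
    rw [closure_le]
    intro a ha
    obtain ⟨g, hg⟩ := exists_conj_centralizes Q (hpow a ha q hq hqp)
    obtain ⟨u, hu, e⟩ := hconj a ha g
    rw [e] at hg
    set w : (P : Subgroup G) := ⟨u⁻¹ * a * u, mul_mem (mul_mem (inv_mem hu) ha.1) hu⟩ with hw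
    have hwK : w ∈ L := hKL (mem_subgroupOf.2 hg)
    have := Subgroup.Normal.conj_mem inferInstance w hwK (⟨u, hu⟩ : (P : Subgroup G))
    exact ⟨_, this, by simp [hw, mul_assoc]⟩
  obtain ⟨w, hw, e⟩ := hle (hgen y.2)
  rwa [← Subtype.ext e]

/-- A vertex is joined to `p`, or has a witness centralising `P`. -/
theorem vertex_cases {r : ℕ} (h : ∃ x : G, p ∣ orderOf x ∧ r ∣ cidx x) :
    Adj p G r p ∨ ∃ a k : G, a ∈ (P : Subgroup G) ∧
      a ∈ centralizer ((P : Subgroup G) : Set G) ∧ a ≠ 1 ∧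
      k ∈ centralizer ((P : Subgroup G) : Set G) ∧ (orderOf a).Coprime (orderOf k) ∧
      (orderOf k).Coprime p ∧ p ∣ orderOf (a * k) ∧ r ∣ cidx (a * k) := by
  obtain ⟨x, hx1, hx2⟩ := h
  by_cases hpx : p ∣ cidx x
  · exact Or.inl ⟨x, hx1, hx2, hpx⟩
  obtain ⟨g, hg⟩ := exists_conj_centralizes P hpx
  set y := g⁻¹ * x * g with hy
  have e : y = g⁻¹ * x * (g⁻¹)⁻¹ := by rw [inv_inv]
  have hy1 : p ∣ orderOf y := by rw [e, orderOf_conj]; exact hx1
  have hy2 : r ∣ cidx y := by rw [e, cidx_conj]; exact hx2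
  obtain ⟨u, v, huv, hc, hco, hpu, hup, hv, hu1, hv1⟩ := exists_parts hy1
  have huC := zpowers_le.2 hg hu1
  refine Or.inr ⟨u, v, mem_of_mem_cent P hup huC, huC, ?_, zpowers_le.2 hg hv1, hco, hv, ?_, ?_⟩
  · exact fun h => hp.out.not_dvd_one (by simpa [h] using hpu)
  · rw [huv]; exact hy1
  · rw [huv]; exact hy2

/-- Two vertices are the ends of a walk of length three. -/
theorem exists_walk (hZ : ¬ p ∣ Nat.card (center G)) {r s : ℕ}
    (hr : ∃ x : G, p ∣ orderOf x ∧ r ∣ cidx x) (hs : ∃ x : G, p ∣ orderOf x ∧ s ∣ cidx x) :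
    Adj p G r s ∨ ∃ t u : ℕ, t.Prime ∧ u.Prime ∧ Adj p G r t ∧ Adj p G t u ∧ Adj p G u s := by
  obtain ⟨P⟩ : Nonempty (Sylow p G) := inferInstance
  rcases vertex_cases P hr with hA | ⟨a, h, haP, haC, ha1, hhC, haco, hhp, hax, har⟩ <;>
    rcases vertex_cases P hs with hB | ⟨b, k, hbP, hbC, hb1, hkC, hbco, hkp, hby, hbs⟩
  · obtain ⟨x, hx1, -, hx2⟩ := id hA
    exact Or.inr ⟨p, p, hp.out, hp.out, hA, ⟨x, hx1, hx2, hx2⟩, hB.symm⟩
  · obtain ⟨x, hx1, -, hx2⟩ := id hA
    obtain ⟨t, ht, htb, hAt⟩ := exists_adj_p P hZ ⟨x, hx1, hx2⟩ hbP hbC hb1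
    exact Or.inr ⟨p, t, hp.out, ht, hA, hAt, ⟨_, hby,
      htb.trans (cidx_dvd_left (mem_centralizer_iff.1 hkC b hbP) hbco), hbs⟩⟩
  · obtain ⟨x, hx1, -, hx2⟩ := id hB
    obtain ⟨t, ht, hta, hAt⟩ := exists_adj_p P hZ ⟨x, hx1, hx2⟩ haP haC ha1
    exact Or.inr ⟨t, p, ht, hp.out, ⟨_, hax, har,
      hta.trans (cidx_dvd_left (mem_centralizer_iff.1 hhC a haP) haco)⟩, hAt.symm, hB.symm⟩
  · have hoa : p ∣ orderOf a := p_dvd_orderOf (isPGroup_zpowers_of_mem P.isPGroup' haP) ha1
    have hob : p ∣ orderOf b := p_dvd_orderOf (isPGroup_zpowers_of_mem P.isPGroup' hbP) hb1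
    have cah : Commute a h := mem_centralizer_iff.1 hhC a haP
    have cbk : Commute b k := mem_centralizer_iff.1 hkC b hbP
    have cak : Commute a k := mem_centralizer_iff.1 hkC a haP
    have cbh : Commute b h := mem_centralizer_iff.1 hhC b hbP
    have key : ∀ {z w : G}, z ∈ (P : Subgroup G) → (orderOf w).Coprime p →
        (orderOf z).Coprime (orderOf w) := by
      intro z w hz hw
      obtain ⟨n, hn⟩ := (isPGroup_zpowers_of_mem P.isPGroup' hz).exists_card_eq
      rw [Nat.card_zpowers] at hn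
      rw [hn]
      exact (Nat.Coprime.pow_right n hw).symm
    obtain ⟨q, hq, hqa⟩ := exists_prime_dvd_cidx (not_mem_center hZ hoa)
    obtain ⟨q', hq', hqb⟩ := exists_prime_dvd_cidx (not_mem_center hZ hob)
    by_cases hk : k ∈ center G
    swap
    · obtain ⟨t, ht, htk⟩ := exists_prime_dvd_cidx hk
      refine Or.inr ⟨q, t, hq, ht, ⟨_, hax, har, hqa.trans (cidx_dvd_left cah haco)⟩,
        ⟨a * k, ?_, hqa.trans (cidx_dvd_left cak (key haP hkp)),
          htk.trans (cidx_dvd_right cak (key haP hkp))⟩,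
        ⟨_, hby, htk.trans (cidx_dvd_right cbk hbco), hbs⟩⟩
      rw [cak.orderOf_mul_eq_mul_orderOf_of_coprime (key haP hkp)]
      exact hoa.mul_right _
    by_cases hh : h ∈ center G
    swap
    · obtain ⟨t, ht, hth⟩ := exists_prime_dvd_cidx hh
      refine Or.inr ⟨t, q', ht, hq', ⟨_, hax, har, hth.trans (cidx_dvd_right cah haco)⟩,
        ⟨b * h, ?_, hth.trans (cidx_dvd_right cbh (key hbP hhp)),
          hqb.trans (cidx_dvd_left cbh (key hbP hhp))⟩,
        ⟨_, hby, hqb.trans (cidx_dvd_left cbk hbco), hbs⟩⟩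
      rw [cbh.orderOf_mul_eq_mul_orderOf_of_coprime (key hbP hhp)]
      exact hob.mul_right _
    rw [cidx_mul_center hh] at har
    rw [cidx_mul_center hk] at hbs
    by_cases hA : centralizer ({a} : Set G) ≤ pcent P
    · left
      refine ⟨a, hoa, har, hbs.trans (index_dvd_of_le ?_)⟩
      exact hA.trans (pcent_le_centralizer P hbP hbC)
    by_cases hB : centralizer ({b} : Set G) ≤ pcent P
    · left
      refine ⟨b, hob, har.trans (index_dvd_of_le ?_), hbs⟩
      exact hB.trans (pcent_le_centralizer P haP haC)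
    obtain ⟨ka, h1, h2, h3⟩ := good P haP haC ha1 hA
    obtain ⟨kb, g1, g2, g3⟩ := good P hbP hbC hb1 hB
    exact Or.inr ⟨p, p, hp.out, hp.out, ⟨_, h3, har.trans h2, h1⟩, ⟨_, h3, h1, h1⟩,
      ⟨_, g3, g1, hbs.trans g2⟩⟩

end CfsgLib.ClassSingular
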